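import Cfsg.Agent.H58.TCPres

set_option autoImplicit false
set_option Elab.async false
set_option maxRecDepth 100000

namespace Cfsg.Agent.AN.LA3

open Cfsg.Agent.H58

noncomputable def tb0 : Nat → Nat := (lf (nat_lit 0x2200001490000224000148000051800014600005140001450000510000144000050c00014300005080001420000504000141000042800014b00003240001080000320000109000041800010600004140001050000410000104000040c0001030000408000102000040400010100003180000c600003140000c500003100000c4000030c0000c300003080000c200003040000c100002280000cb000021800008600002140000850000210000084000020c0000830000208000082000020400008100001180000460000114000045000010c0000430000110000044000002400004800001040000410000108000042000000000000000000000000000000000000000000000000000000000000000000000000000000000000000000000000000000000000000000000000000000000000000000000000000000000000000000000000000000000000000000000000000000000000000000000000000000000000000000000000000000000000000000000000000000000000001800000600000140000050000010000004000000c00000300000080000020000004000001000052800004b000042c00004a000032800000b000022c00000a0000124000008))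
noncomputable def rk0 : Nat → Nat := (lf (nat_lit 0x50000400003000020000100000))
noncomputable def st0 : Nat → Nat := (nd (nat_lit 1) (lf (nat_lit 0x1d40001a000074030000e60000e8000390180007100006c0001c00c00037800070020000de0000c0000380180006d0000e60001b80c000358000240000d4060001a400012000068030000ce00009800033018000650000440001900c000318000280000c40600018400012000060030000c2000140000300180005f0000a00001780c0002e8000500000b80600016c0002800005a030000b20001400002c018000570000a00001580c0002a800056020000aa0001080002a018000530000840001480c000288000420000a00600013c0002100004e0300009a000108000260180004b0000840001280c0000300003d0000820000e40001e80004100000e0e0000100001d80003d00006a0000ec0001e800005070000040000cc0001a80003300006a00000c180000280000300000a00000c000228000340000880e00010c0001c0000360000700000d81400020800034000080060000fc0001a00003e03))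 (lf (nat_lit 0x1fc00043800084030000fa000100000410180007b00006c0001e80c0003c8000360000f0060001dc0001c00007603)))
noncomputable def cl0 : Nat → Nat := (lf (nat_lit 0x8a00010c0002080003f00007a0000ec0001c8000b60000ae0001540002980005100009e000134000248000460000c60001840002f80005d0000b6000164000250000ba0000e20001bc0003680006b0000d200019c0001b0000640000fa0001fc0003b8000790000ea0001cc0003d8000b900016a0002cc000588000af00015a0002ac0005f8000bd))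
def iv : Nat := 3688918921700358914580544

def rels : List (List Nat) := [[1, 2, 1, 2, 1, 2, 1, 2],
  [1, 3, 1, 3, 1, 3, 1, 3],
  [1, 4, 1, 4],
  [1, 5, 1, 5, 1, 5, 1, 5],
  [1, 6, 1, 6, 1, 6],
  [2, 3, 2, 3, 2, 3, 2, 3],
  [2, 4, 2, 4],
  [2, 5, 2, 5, 2, 5],
  [2, 6, 2, 6, 2, 6, 2, 6],
  [4, 3, 4, 3, 4, 3],
  [5, 3, 5, 3],
  [6, 3, 6, 3],
  [5, 4, 5, 4, 5, 4, 5, 4],
  [6, 4, 6, 4, 6, 4, 6, 4],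
  [5, 6, 5, 6, 5, 6, 5, 6],
  [1, 2, 4, 1, 2, 4, 1, 2, 4, 1, 2, 4],
  [1, 4, 3, 1, 4, 3, 1, 4, 3],
  [1, 5, 3, 1, 5, 3, 1, 5, 3, 1, 5, 3],
  [1, 6, 3, 1, 6, 3, 1, 6, 3],
  [1, 5, 4, 1, 5, 4, 1, 5, 4, 1, 5, 4],
  [1, 6, 4, 1, 6, 4, 1, 6, 4],
  [2, 4, 3, 2, 4, 3, 2, 4, 3],
  [2, 5, 3, 2, 5, 3, 2, 5, 3],
  [2, 6, 3, 2, 6, 3, 2, 6, 3, 2, 6, 3],
  [2, 5, 4, 2, 5, 4, 2, 5, 4],
  [2, 6, 4, 2, 6, 4, 2, 6, 4, 2, 6, 4],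
  [5, 4, 3, 5, 4, 3, 5, 4, 3],
  [6, 4, 3, 6, 4, 3, 6, 4, 3],
  [5, 6, 3, 5, 6, 3, 5, 6, 3, 5, 6, 3],
  [1, 2, 1, 4, 1, 2, 1, 4],
  [1, 2, 4, 2, 1, 2, 4, 2],
  [1, 4, 1, 3, 1, 4, 1, 3, 1, 4, 1, 3],
  [1, 5, 1, 3, 1, 5, 1, 3],
  [1, 4, 5, 3, 1, 4, 5, 3, 1, 4, 5, 3],
  [1, 3, 6, 3, 1, 3, 6, 3, 1, 3, 6, 3],
  [1, 5, 3, 4, 1, 5, 3, 4, 1, 5, 3, 4],
  [1, 4, 6, 4, 1, 4, 6, 4, 1, 4, 6, 4],
  [1, 5, 4, 5, 1, 5, 4, 5],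
  [2, 4, 2, 3, 2, 4, 2, 3, 2, 4, 2, 3],
  [2, 6, 2, 3, 2, 6, 2, 3],
  [2, 3, 5, 3, 2, 3, 5, 3, 2, 3, 5, 3],
  [2, 4, 6, 3, 2, 4, 6, 3, 2, 4, 6, 3],
  [2, 6, 3, 4, 2, 6, 3, 4, 2, 6, 3, 4],
  [2, 4, 5, 4, 2, 4, 5, 4, 2, 4, 5, 4],
  [2, 6, 4, 6, 2, 6, 4, 6],
  [5, 4, 5, 3, 5, 4, 5, 3, 5, 4, 5, 3],
  [5, 6, 5, 3, 5, 6, 5, 3],
  [6, 4, 6, 3, 6, 4, 6, 3, 6, 4, 6, 3],
  [5, 6, 3, 6, 5, 6, 3, 6],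
  [5, 4, 6, 4, 5, 4, 6, 4, 5, 4, 6, 4],
  [1, 2, 1, 2, 3, 1, 2, 1, 2, 3],
  [1, 2, 1, 2, 4, 1, 2, 1, 2, 4],
  [1, 2, 1, 2, 5, 1, 2, 1, 2, 5],
  [1, 2, 1, 2, 6, 1, 2, 1, 2, 6],
  [1, 2, 4, 1, 4, 1, 2, 4, 1, 4],
  [1, 2, 4, 2, 4, 1, 2, 4, 2, 4],
  [1, 2, 5, 1, 5, 1, 2, 5, 1, 5],
  [1, 2, 6, 2, 6, 1, 2, 6, 2, 6],
  [1, 5, 3, 1, 3, 1, 5, 3, 1, 3],
  [1, 4, 1, 4, 3, 1, 4, 1, 4, 3],
  [1, 5, 1, 5, 3, 1, 5, 1, 5, 3],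
  [1, 5, 3, 5, 3, 1, 5, 3, 5, 3],
  [1, 6, 3, 6, 3, 1, 6, 3, 6, 3],
  [1, 5, 4, 1, 4, 1, 5, 4, 1, 4],
  [1, 6, 4, 1, 4, 1, 6, 4, 1, 4],
  [1, 5, 1, 5, 4, 1, 5, 1, 5, 4],
  [1, 5, 4, 5, 4, 1, 5, 4, 5, 4],
  [1, 5, 1, 5, 6, 1, 5, 1, 5, 6],
  [2, 6, 3, 2, 3, 2, 6, 3, 2, 3],
  [2, 4, 2, 4, 3, 2, 4, 2, 4, 3],
  [2, 5, 3, 5, 3, 2, 5, 3, 5, 3],
  [2, 6, 2, 6, 3, 2, 6, 2, 6, 3],
  [2, 6, 3, 6, 3, 2, 6, 3, 6, 3],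
  [2, 5, 4, 2, 4, 2, 5, 4, 2, 4],
  [2, 6, 4, 2, 4, 2, 6, 4, 2, 4],
  [2, 6, 2, 6, 4, 2, 6, 2, 6, 4],
  [2, 6, 4, 6, 4, 2, 6, 4, 6, 4],
  [2, 5, 6, 2, 6, 2, 5, 6, 2, 6],
  [5, 4, 3, 5, 3, 5, 4, 3, 5, 3],
  [6, 4, 3, 6, 3, 6, 4, 3, 6, 3],
  [5, 6, 3, 5, 3, 5, 6, 3, 5, 3],
  [5, 6, 3, 6, 3, 5, 6, 3, 6, 3],
  [5, 6, 5, 6, 3, 5, 6, 5, 6, 3],
  [1, 2, 1, 2, 1, 4, 1, 2, 1, 2, 1, 4],
  [1, 2, 1, 2, 3, 5, 1, 2, 1, 2, 3, 5],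
  [1, 2, 1, 2, 3, 6, 1, 2, 1, 2, 3, 6],
  [1, 2, 1, 2, 4, 2, 1, 2, 1, 2, 4, 2],
  [1, 2, 1, 2, 5, 3, 1, 2, 1, 2, 5, 3],
  [1, 2, 1, 2, 6, 3, 1, 2, 1, 2, 6, 3],
  [1, 2, 1, 3, 2, 3, 1, 2, 1, 3, 2, 3],
  [1, 2, 1, 6, 2, 3, 1, 2, 1, 6, 2, 3],
  [1, 2, 1, 4, 2, 4, 1, 2, 1, 4, 2, 4],
  [1, 2, 1, 6, 2, 6],
  [1, 2, 1, 6, 4, 6, 1, 2, 1, 6, 4, 6],
  [1, 2, 3, 1, 3, 2, 1, 2, 3, 1, 3, 2],
  [1, 2, 5, 1, 3, 2, 1, 2, 5, 1, 3, 2],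
  [1, 2, 4, 1, 4, 2, 1, 2, 4, 1, 4, 2],
  [1, 2, 4, 2, 1, 4],
  [1, 2, 4, 5, 1, 5, 1, 2, 4, 5, 1, 5],
  [1, 2, 4, 6, 2, 6, 1, 2, 4, 6, 2, 6],
  [1, 2, 5, 1, 5, 2],
  [1, 2, 5, 1, 5, 4, 1, 2, 5, 1, 5, 4],
  [1, 2, 5, 4, 5, 2, 1, 2, 5, 4, 5, 2],
  [1, 2, 6, 2, 6, 4, 1, 2, 6, 2, 6, 4],
  [1, 3, 1, 3, 5, 3, 1, 3, 1, 3, 5, 3],
  [1, 5, 3, 5, 1, 3, 1, 5, 3, 5, 1, 3],
  [1, 6, 1, 6, 1, 3, 1, 6, 1, 6, 1, 3],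
  [1, 6, 3, 6, 1, 3, 1, 6, 3, 6, 1, 3],
  [1, 6, 5, 6, 1, 3, 1, 6, 5, 6, 1, 3],
  [1, 4, 3, 1, 3, 4, 1, 4, 3, 1, 3, 4],
  [1, 5, 4, 1, 4, 3, 1, 5, 4, 1, 4, 3],
  [1, 3, 4, 3, 4, 3, 1, 3, 4, 3, 4, 3],
  [1, 3, 4, 5, 4, 3, 1, 3, 4, 5, 4, 3],
  [1, 5, 3, 1, 3, 5, 1, 5, 3, 1, 3, 5],
  [1, 5, 1, 3, 5, 3, 1, 5, 1, 3, 5, 3],
  [1, 5, 4, 3, 5, 3, 1, 5, 4, 3, 5, 3],
  [1, 4, 5, 3, 5, 3, 1, 4, 5, 3, 5, 3],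
  [1, 4, 1, 4, 5, 3, 1, 4, 1, 4, 5, 3],
  [1, 5, 1, 6, 5, 3, 1, 5, 1, 6, 5, 3],
  [1, 6, 5, 6, 5, 3, 1, 6, 5, 6, 5, 3],
  [1, 4, 6, 3, 6, 3, 1, 4, 6, 3, 6, 3],
  [1, 4, 1, 4, 6, 3, 1, 4, 1, 4, 6, 3],
  [1, 5, 1, 5, 6, 3, 1, 5, 1, 5, 6, 3],
  [1, 5, 6, 5, 6, 3, 1, 5, 6, 5, 6, 3],
  [1, 4, 1, 4, 2, 4, 1, 4, 1, 4, 2, 4],
  [1, 5, 3, 4, 1, 4, 1, 5, 3, 4, 1, 4],
  [1, 6, 3, 4, 1, 4, 1, 6, 3, 4, 1, 4],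
  [1, 5, 1, 5, 1, 4, 1, 5, 1, 5, 1, 4],
  [1, 5, 4, 5, 1, 4, 1, 5, 4, 5, 1, 4],
  [1, 6, 2, 6, 1, 4, 1, 6, 2, 6, 1, 4],
  [1, 6, 4, 6, 1, 4, 1, 6, 4, 6, 1, 4],
  [1, 4, 2, 4, 2, 4, 1, 4, 2, 4, 2, 4],
  [1, 5, 1, 5, 2, 4, 1, 5, 1, 5, 2, 4],
  [1, 6, 2, 6, 2, 4, 1, 6, 2, 6, 2, 4],
  [1, 5, 3, 5, 3, 4, 1, 5, 3, 5, 3, 4],
  [1, 6, 3, 6, 3, 4, 1, 6, 3, 6, 3, 4],
  [1, 5, 4, 1, 4, 5, 1, 5, 4, 1, 4, 5],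
  [1, 5, 1, 4, 5, 4, 1, 5, 1, 4, 5, 4],
  [1, 4, 5, 4, 5, 4, 1, 4, 5, 4, 5, 4],
  [1, 5, 1, 5, 3, 5, 1, 5, 1, 5, 3, 5],
  [1, 5, 1, 5, 3, 6, 1, 5, 1, 5, 3, 6],
  [1, 5, 1, 6, 3, 6, 1, 5, 1, 6, 3, 6],
  [1, 5, 1, 6, 5, 6, 1, 5, 1, 6, 5, 6],
  [1, 5, 2, 4, 2, 5, 1, 5, 2, 4, 2, 5],
  [1, 5, 3, 6, 5, 6, 1, 5, 3, 6, 5, 6],
  [1, 5, 6, 3, 5, 6, 1, 5, 6, 3, 5, 6],
  [1, 5, 6, 5, 3, 6, 1, 5, 6, 5, 3, 6],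
  [1, 6, 1, 6, 4, 6, 1, 6, 1, 6, 4, 6],
  [2, 3, 2, 3, 6, 3, 2, 3, 2, 3, 6, 3],
  [2, 5, 2, 5, 2, 3, 2, 5, 2, 5, 2, 3],
  [2, 5, 3, 5, 2, 3, 2, 5, 3, 5, 2, 3],
  [2, 5, 6, 5, 2, 3, 2, 5, 6, 5, 2, 3],
  [2, 6, 3, 6, 2, 3, 2, 6, 3, 6, 2, 3],
  [2, 4, 3, 2, 3, 4, 2, 4, 3, 2, 3, 4],
  [2, 6, 4, 2, 4, 3, 2, 6, 4, 2, 4, 3],
  [2, 3, 4, 3, 4, 3, 2, 3, 4, 3, 4, 3],
  [2, 3, 4, 6, 4, 3, 2, 3, 4, 6, 4, 3],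
  [2, 4, 5, 3, 5, 3, 2, 4, 5, 3, 5, 3],
  [2, 4, 2, 4, 5, 3, 2, 4, 2, 4, 5, 3],
  [2, 6, 2, 6, 5, 3, 2, 6, 2, 6, 5, 3],
  [2, 6, 5, 6, 5, 3, 2, 6, 5, 6, 5, 3],
  [2, 6, 3, 2, 3, 6, 2, 6, 3, 2, 3, 6],
  [2, 6, 2, 3, 6, 3, 2, 6, 2, 3, 6, 3],
  [2, 6, 4, 3, 6, 3, 2, 6, 4, 3, 6, 3],
  [2, 4, 6, 3, 6, 3, 2, 4, 6, 3, 6, 3],
  [2, 4, 2, 4, 6, 3, 2, 4, 2, 4, 6, 3],
  [2, 5, 6, 3, 2, 6, 2, 5, 6, 3, 2, 6],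
  [2, 5, 6, 5, 6, 3, 2, 5, 6, 5, 6, 3],
  [2, 5, 3, 4, 2, 4, 2, 5, 3, 4, 2, 4],
  [2, 6, 3, 4, 2, 4, 2, 6, 3, 4, 2, 4],
  [2, 5, 4, 5, 2, 4, 2, 5, 4, 5, 2, 4],
  [2, 6, 2, 6, 2, 4, 2, 6, 2, 6, 2, 4],
  [2, 6, 4, 6, 2, 4, 2, 6, 4, 6, 2, 4],
  [2, 5, 3, 5, 3, 4, 2, 5, 3, 5, 3, 4],
  [2, 6, 3, 6, 3, 4, 2, 6, 3, 6, 3, 4],
  [2, 6, 4, 2, 4, 6, 2, 6, 4, 2, 4, 6],
  [2, 6, 2, 4, 6, 4, 2, 6, 2, 4, 6, 4],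
  [2, 4, 6, 4, 6, 4, 2, 4, 6, 4, 6, 4],
  [2, 5, 2, 5, 4, 5, 2, 5, 2, 5, 4, 5],
  [2, 5, 3, 5, 2, 6, 2, 5, 3, 5, 2, 6],
  [2, 5, 3, 6, 2, 6, 2, 5, 3, 6, 2, 6],
  [2, 5, 3, 6, 5, 6, 2, 5, 3, 6, 5, 6],
  [2, 5, 6, 3, 5, 6, 2, 5, 6, 3, 5, 6],
  [2, 5, 6, 5, 2, 6, 2, 5, 6, 5, 2, 6],
  [2, 5, 6, 5, 3, 6, 2, 5, 6, 5, 3, 6],
  [2, 6, 2, 6, 3, 6, 2, 6, 2, 6, 3, 6],
  [5, 4, 3, 4, 3, 4, 5, 4, 3, 4, 3, 4],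
  [6, 4, 3, 4, 3, 4, 6, 4, 3, 4, 3, 4],
  [5, 4, 3, 5, 3, 4, 5, 4, 3, 5, 3, 4],
  [5, 6, 5, 6, 3, 4, 5, 6, 5, 6, 3, 4],
  [6, 4, 3, 6, 3, 4, 6, 4, 3, 6, 3, 4],
  [5, 6, 5, 6, 4, 3, 5, 6, 5, 6, 4, 3],
  [5, 3, 5, 3, 6, 3, 5, 3, 5, 3, 6, 3],
  [5, 3, 6, 3, 6, 3, 5, 3, 6, 3, 6, 3],
  [5, 6, 3, 5, 3, 6, 5, 6, 3, 5, 3, 6],
  [5, 6, 4, 5, 3, 6, 5, 6, 4, 5, 3, 6],
  [5, 6, 3, 6, 5, 3],
  [5, 6, 4, 5, 6, 3, 5, 6, 4, 5, 6, 3],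
  [5, 6, 5, 3, 6, 3, 5, 6, 5, 3, 6, 3],
  [5, 6, 5, 4, 6, 3, 5, 6, 5, 4, 6, 3],
  [5, 6, 5, 6, 5, 3, 5, 6, 5, 6, 5, 3],
  [5, 6, 5, 6, 3, 6, 5, 6, 5, 6, 3, 6],
  [10, 10, 10],
  [10, 1, 11, 1],
  [10, 2, 11, 2],
  [10, 3, 11, 3],
  [10, 4, 11, 4],
  [10, 5, 11, 5],
  [10, 6, 11, 6],
  [8, 8, 1, 2, 1, 2],
  [8, 10, 9, 10],
  [8, 1, 9, 2],
  [8, 2, 9, 1],
  [8, 3, 9, 6, 5, 6, 5],
  [8, 4, 9, 4, 2, 1, 2, 1],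
  [8, 5, 9, 3, 2, 6, 3, 2],
  [8, 6, 9, 3, 1, 5, 3, 1]]

noncomputable def tbl : Nat → Nat := (nd (nat_lit 1) tb0 (lf (nat_lit 0)))
noncomputable def rnk : Nat → Nat := (nd (nat_lit 1) rk0 (lf (nat_lit 0)))
noncomputable def str : Nat → Nat := (nd (nat_lit 2) st0 (lf (nat_lit 0)))
noncomputable def clo : Nat → Nat := (nd (nat_lit 1) cl0 (lf (nat_lit 0)))
def tree : ST := (ST.node (ST.node (ST.node (ST.node (ST.node ST.nil (nat_lit 1) (nat_lit 0) (nat_lit 0) ST.nil) (nat_lit 307915) (nat_lit 406) (nat_lit 2) (ST.node ST.nil (nat_lit 19141122) (nat_lit 424) (nat_lit 0) ST.nil)) (nat_lit 19145217) (nat_lit 426) (nat_lit 0) (ST.node (ST.node ST.nil (nat_lit 19403457) (nat_lit 408) (nat_lit 2) ST.nil) (nat_lit 19407554) (nat_lit 410) (nat_lit 2) ST.nil)) (nat_lit 19411651)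 (nat_lit 412) (nat_lit 2) (ST.node (ST.node (ST.node ST.nil (nat_lit 19415748) (nat_lit 414) (nat_lit 2) ST.nil) (nat_lit 19419845) (nat_lit 416) (nat_lit 2) ST.nil) (nat_lit 19423942) (nat_lit 418) (nat_lit 2) (ST.node (ST.node ST.nil (nat_lit 19432073) (nat_lit 421) (nat_lit 2) ST.nil) (nat_lit 19436168) (nat_lit 421) (nat_lit 0) ST.nil))) (nat_lit 19665537) (nat_lit 408) (nat_lit 0) (ST.node (ST.node (ST.node (ST.node ST.nil (nat_lit 19669634) (nat_lit 410) (nat_lit 0) ST.nil) (nat_lit 19673731) (nat_lit 412) (nat_lit 0) (ST.node ST.nil (nat_lit 19677828) (nat_lit 414) (nat_lit 0) ST.nil)) (nat_lit 19681925) (nat_lit 416) (nat_lit 0) (ST.node (ST.node ST.nil (nat_lit 19686022) (nat_lit 418) (nat_lit 0) ST.nil) (nat_lit 19694281) (nat_lit 422) (nat_lit 3) ST.nil))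 (nat_lit 19698376) (nat_lit 422) (nat_lit 1) (ST.node (ST.node (ST.node ST.nil (nat_lit 70884266504) (nat_lit 419) (nat_lit 0) ST.nil) (nat_lit 4953273033283) (nat_lit 427) (nat_lit 1) ST.nil) (nat_lit 316731373662790) (nat_lit 433) (nat_lit 1) (ST.node (ST.node ST.nil (nat_lit 316800110178885) (nat_lit 431) (nat_lit 1) ST.nil) (nat_lit 321340880457860) (nat_lit 429) (nat_lit 3) ST.nil))))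

theorem d0 : sumPow (grd 5 (defn tbl rnk (okPair iv))) 6 0 = 0 := by decide +kernel
theorem s0 : sumPow (grd 2 (chunk tbl (okRule iv tree) str 9)) 3 0 = 0 := by decide +kernel
theorem c0 : sumPow (clchunk tbl clo 703 383 8 411376200630123875925123462201585328672817974475293208032051201) 9 0 = 0 := by decide +kernel

noncomputable def C : Cert := ⟨tbl, rnk, str, clo, tree, 5, 27, 9, 2, [1, 2, 3, 4, 5, 6]⟩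

theorem good : C.Good rels iv :=
  ⟨by decide, by decide +kernel,
   all_lt_of_gblocks _ 6 5 1 (by decide) (blocks_cons (blocks_nil _) d0),
   by decide +kernel,
   all_lt_of_gblocks _ 3 2 1 (by decide) (blocks_cons (blocks_nil _) s0)⟩

theorem closed : C.Closed [1, 2, 3, 4, 5, 6, 8, 10] 5 :=
  ⟨by decide, by decide, 703, 383, 8, 411376200630123875925123462201585328672817974475293208032051201, by decide, by decide, by decide +kernel,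
    all_lt_of_blocks _ 9 1 1 (by decide) (blocks_cons (blocks_nil _) c0)⟩

theorem relIndex_le {G : Type*} [Group G] {el : ℕ → G} (R : RuleOK el rels iv) (H : Subgroup G)
    (hfix : ∀ x ∈ ([1, 2, 3, 4, 5, 6] : List ℕ), el x ∈ H) :
    H.relIndex (Subgroup.closure (el '' {x | x ∈ ([1, 2, 3, 4, 5, 6, 8, 10] : List ℕ)})) ≠ 0 ∧
      H.relIndex (Subgroup.closure (el '' {x | x ∈ ([1, 2, 3, 4, 5, 6, 8, 10] : List ℕ)})) ≤ 6 :=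
  Cert.relIndex_le good closed R H hfix


end Cfsg.Agent.AN.LA3
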